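import Cfsg.Agent.Lib.CosetEnum.Defs

/-! Generated table data. -/

set_option autoImplicit false
set_option maxRecDepth 20000

namespace Cfsg.Lib.CosetEnum.MclStemG

/-- Table data. -/
def tabFA_0_0 : Tab :=
  (.node 1 (.leaf 0x1f80008010000000001f00007e00000000001e80007c20000000001180007a00000000000b80007820000000001d00007620000000001c80007410000000001c00007240000000001b80007020000000001b00006e10000000001a80006c40000000001a00006a20000000001980006840000000001900006620000000001880006400000000001800006220000000001780006010000000001580005e40000000001680005c10000000001600005a00000000001580005820000000001500005600000000001480005410000000001400005200000000001380005020000000000b00004e00000000001280004c20000000001200004a00000000001180004810000000001100004620000000001080004410000000001000004200000000000f80004020000000000f00003e10000000000e80003c00000000000400003a10000000000d80003820000000000d00003610000000000c80003440000000000c00003220000000000b80003010000000000700002e40000000000a80002c20000000000200002a10000000000980002810000000000900002600000000000880002430000000000800002200000000000780002040000000000480001e30000000000100001c20000000000600001a30000000000580001810000000000500001600000000000480001440000000000180001210000000000380001040000000000300000e20000000000280000c00000000000200000a4000000000008000082000000000008000060000000000008000041000000000000000024) (.node 1 (.leaf 0x1700005c00000000001680003a20000000001700001220000000001300002a0000000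0000e00002a40000000000b00001c10000000000680001e10000000000480001e00000000000900002640000000000980001630000000000a00002800000000000a00002840000000000a00000630000000000700001c00000000000500001410000000000600001a40000000000600001800000000000680000400000000000300000c40000000000400001000000000000400000620000000000200000800000000000280000a2000000000018000064000000000010000043000000000010000044000000000008000023000000000000000003000000000000000002000000000000000001000000000000000000000000000300000c240000000002f8000c020000000002f0000be10000000002e8000bc40000000002e0000ba2000000000258000b810000000002a0000b620000000002c8000b440000000002c0000b220000000002b8000b010000000002b0000ae40000000002a8000ac20000000002a0000aa1000000000298000a840000000000c8000a61000000000288000a44000000000280000a22000000000278000a010000000002700009e40000000002680009c20000000002600009a10000000001900009840000000002500009620000000000d80009440000000002400009240000000002380009020000000002300008e10000000002200008c40000000002200008a20000000002180008800000000002100008620000000002080008410000000001e8000824) (.leaf 0x2f0000c1f000000000308000bbf000000000308000b61000000000250000abf000000000258000adf0000000001d0000aff0000000002c000073f0000000002c8000b5f0000000002d00007220000000002d0000881000000000298000a420000000002900007810000000002580007440000000002380008df0000000002480003420000000002480006410000000002280007610000000002280003040000000002000001e20000000001e00007840000000001d80002c40000000001980003810000000001a00000a1)))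

/-- Table data. -/
def tabFA_0 : Tab :=
  tabFA_0_0

end Cfsg.Lib.CosetEnum.MclStemG
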