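import Cfsg.Agent.Lib.CosetEnum.Stem.Defs
import Cfsg.Agent.Lib.CosetEnum.MclStemG.TabFA_Data0
import Cfsg.Agent.Lib.CosetEnum.MclStemG.TabCA_Data0
import Cfsg.Agent.Lib.CosetEnum.MclStemG.TabVA_Data0
import Cfsg.Agent.Lib.CosetEnum.MclStemG.TabFB_Data0
import Cfsg.Agent.Lib.CosetEnum.MclStemG.TabCB_Data0
import Cfsg.Agent.Lib.CosetEnum.MclStemG.TabVB_Data0
import Cfsg.Agent.Lib.CosetEnum.MclStemG.TabVB_Data1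
import Cfsg.Agent.Lib.CosetEnum.MclStemG.TabVB_Data2

/-! Generated certificate. -/

set_option autoImplicit false
set_option maxRecDepth 20000

namespace Cfsg.Lib.CosetEnum.MclStemG

open Stem

/-- Table. -/
def tabFA : Tab :=
  tabFA_0

/-- Table. -/
def tabCA : Tab :=
  tabCA_0

/-- Table. -/
def tabVA : Tab :=
  tabVA_0

/-- Relator words. -/
def relWordsA : List (List Nat) :=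
  [[1, 1],
    [2, 2],
    [4, 4],
    [4, 3, 4, 3],
    [1, 2, 1, 2, 1, 2],
    [4, 1, 4, 1, 4, 1],
    [0, 1, 0, 1, 0, 1],
    [0, 3, 0, 3, 0, 3],
    [0, 4, 0, 4, 0, 4],
    [4, 2, 4, 2, 4, 2, 4, 2],
    [2, 0, 2, 0, 2, 0, 2, 0],
    [3, 4, 3, 1, 4, 1, 4, 1],
    [3, 0, 3, 2, 4, 2, 0, 2, 4, 2, 3, 0],
    [0, 2, 4, 2, 0, 4, 0, 2, 4, 2, 0, 4],
    [0, 2, 1, 0, 1, 2, 0, 1, 2, 1, 0, 2, 0, 1, 2],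
    [2, 0, 1, 2, 0, 2, 0, 1, 0, 2, 0, 1, 2, 1, 0],
    [4, 0, 1, 4, 0, 1, 3, 0, 1, 4, 0, 3, 1, 3, 1],
    [0, 1, 2, 1, 0, 2, 4, 1, 2, 0, 2, 4, 1, 4, 2],
    [3, 4, 0, 1, 3, 4, 0, 3, 0, 1, 3, 0, 4, 1, 0],
    [1, 4, 2, 0, 1, 2, 1, 0, 2, 1, 4, 1, 2, 0, 2],
    [2, 4, 1, 2, 4, 1, 2, 4, 1, 2, 4, 1, 2, 4, 1],
    [2, 1, 2, 1, 2, 1],
    [1, 4, 1, 4, 1, 4],
    [4, 0, 4, 0, 4, 0],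
    [2, 4, 2, 4, 2, 4, 2, 4],
    [4, 1, 4, 1, 3, 4, 3, 1],
    [4, 1, 3, 1, 3, 4, 1, 3, 1],
    [4, 3, 1, 3, 1, 4, 1, 3, 1],
    [4, 0, 2, 4, 2, 0, 4, 0, 2, 4, 2, 0],
    [2, 4, 2, 3, 4, 2, 4, 3, 4, 2, 4, 3, 2, 4],
    [2, 0, 1, 2, 1, 0, 2, 0, 1, 2, 0, 2, 1, 0, 1],
    [0, 1, 4, 0, 3, 1, 3, 1, 4, 0, 1, 4, 0, 1, 3],
    [3, 1, 3, 1, 4, 0, 1, 4, 0, 1, 3, 0, 1, 4, 0],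
    [3, 1, 0, 4, 1, 0, 4, 1, 3, 1, 3, 0, 4, 1, 0],
    [2, 0, 2, 4, 1, 4, 2, 0, 1, 2, 1, 0, 2, 4, 1],
    [0, 2, 1, 4, 2, 0, 1, 2, 1, 0, 2, 4, 1, 4, 2],
    [0, 3, 4, 0, 1, 3, 4, 0, 3, 0, 1, 3, 0, 4, 1],
    [3, 1, 0, 4, 3, 0, 1, 4, 0, 3, 1, 0, 3, 0, 4],
    [3, 0, 1, 4, 0, 3, 1, 0, 3, 0, 4, 3, 1, 0, 4],
    [0, 2, 1, 4, 2, 0, 1, 2, 1, 0, 2, 1, 4, 1, 2],
    [0, 1, 0, 1, 0, 1],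
    [0, 1, 0, 1, 0, 1],
    [0, 2, 0, 2, 0, 2, 0, 2],
    [0, 2, 0, 2, 0, 2, 0, 2],
    [0, 3, 0, 3, 0, 3],
    [0, 3, 0, 3, 0, 3],
    [0, 4, 0, 4, 0, 4],
    [0, 4, 0, 4, 0, 4],
    [1, 2, 1, 2, 1, 2],
    [1, 2, 1, 2, 1, 2],
    [1, 3, 1, 3, 1, 3, 1, 3],
    [1, 3, 1, 3, 1, 3, 1, 3],
    [1, 4, 1, 4, 1, 4],
    [1, 4, 1, 4, 1, 4],
    [2, 3, 2, 3, 2, 3],
    [2, 3, 2, 3, 2, 3],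
    [2, 4, 2, 4, 2, 4, 2, 4],
    [2, 4, 2, 4, 2, 4, 2, 4],
    [3, 4, 3, 4],
    [3, 4, 3, 4],
    [0, 1, 2, 0, 1, 3, 1, 0, 2, 1, 0, 2, 3, 0, 3, 2],
    [0, 1, 2, 0, 1, 3, 1, 0, 2, 1, 0, 2, 3, 0, 3, 2],
    [0, 1, 2, 1, 0, 2, 3, 0, 2, 3, 1, 3, 2, 0, 3, 2],
    [0, 1, 2, 1, 0, 2, 3, 0, 2, 3, 1, 3, 2, 0, 3, 2],
    [1, 3, 4, 3, 1, 4, 1, 4],
    [1, 3, 4, 3, 1, 4, 1, 4],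
    [0, 2, 4, 2, 0, 4, 0, 2, 4, 2, 0, 4],
    [0, 2, 4, 2, 0, 4, 0, 2, 4, 2, 0, 4],
    [0, 2, 4, 2, 3, 0, 3, 0, 3, 2, 4, 2],
    [0, 2, 4, 2, 3, 0, 3, 0, 3, 2, 4, 2],
    [2, 3, 4, 2, 4, 3, 4, 2, 4, 3, 2, 4, 2, 4],
    [2, 3, 4, 2, 4, 3, 4, 2, 4, 3, 2, 4, 2, 4]]

/-- Their values. -/
def relValsA : List (List Int) :=
  [[0, 0, 0, 0, 0, 0, 0, 0, 0, 0, 0, 0, 0, 0],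
    [0, 0, 0, 0, 0, 0, 0, 0, 0, 0, 0, 0, 0, 0],
    [0, 0, 0, 0, 0, 0, 0, 0, 0, 0, 0, 0, 0, 0],
    [0, 0, 0, 1, 0, 0, 0, 0, 0, 0, 0, 0, 0, 0],
    [0, 0, 0, 0, 0, 0, 0, 0, 0, 0, 0, 0, 0, 0],
    [0, 1, 0, 0, 0, 0, 0, 0, 0, 0, 0, 0, 0, 0],
    [0, 0, 0, 0, 0, 0, 0, 0, 0, 0, 0, 0, 0, 0],
    [0, 0, 0, 0, 0, 0, 0, 0, 0, 0, 0, 0, 0, 0],
    [1, 0, 0, 0, 0, 0, 0, 0, 0, 0, 0, 0, 0, 0],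
    [0, 0, 1, 0, 0, 0, 0, 0, 0, 0, 0, 0, 0, 0],
    [0, 0, 0, 0, 0, 0, 0, 0, 0, 0, 0, 0, 0, 0],
    [0, 0, 0, 0, 1, 0, 0, 0, 0, 0, 0, 0, 0, 0],
    [0, 0, 0, 0, 0, 0, 0, 1, 0, 0, 0, 0, 0, 0],
    [0, 0, 0, 0, 0, 0, 1, 0, 0, 0, 0, 0, 0, 0],
    [0, 0, 0, 0, 0, 0, 0, 0, 0, 0, 0, 0, 0, 0],
    [0, 0, 0, 0, 0, 0, 0, 0, 0, 0, 0, 0, 0, 0],
    [0, 0, 0, 0, 0, 0, 0, 0, 0, 0, 0, 1, 0, 0],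
    [0, 0, 0, 0, 0, 0, 0, 0, 0, 0, 1, 0, 0, 0],
    [0, 0, 0, 0, 0, 0, 0, 0, 0, 0, 0, 0, 1, 0],
    [0, 0, 0, 0, 0, 0, 0, 0, 0, 1, 0, 0, 0, 0],
    [0, 0, 0, 0, 0, 0, 0, 0, 0, 0, 0, 0, 0, 1],
    [0, 0, 0, 0, 0, 0, 0, 0, 0, 0, 0, 0, 0, 0],
    [0, 1, 0, 0, 0, 0, 0, 0, 0, 0, 0, 0, 0, 0],
    [1, 0, 0, 0, 0, 0, 0, 0, 0, 0, 0, 0, 0, 0],
    [0, 0, 1, 0, 0, 0, 0, 0, 0, 0, 0, 0, 0, 0],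
    [0, 0, 0, 0, 1, 0, 0, 0, 0, 0, 0, 0, 0, 0],
    [0, 0, 0, 0, 0, 1, 0, 0, 0, 0, 0, 0, 0, 0],
    [0, 0, 0, 0, 0, -1, 0, 0, 0, 0, 0, 0, 0, 0],
    [0, 0, 0, 0, 0, 0, 1, 0, 0, 0, 0, 0, 0, 0],
    [0, 0, 0, 0, 0, 0, 0, 0, 1, 0, 0, 0, 0, 0],
    [0, 0, 0, 0, 0, 0, 0, 0, 0, 0, 0, 0, 0, 0],
    [0, 0, 0, 0, 0, 0, 0, 0, 0, 0, 0, 1, 0, 0],
    [0, 0, 0, 0, 0, 0, 0, 0, 0, 0, 0, 1, 0, 0],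
    [0, 0, 0, 0, 0, 0, 0, 0, 0, 0, 0, -1, 0, 0],
    [0, 0, 0, 0, 0, 0, 0, 0, 0, 0, 1, 0, 0, 0],
    [0, 0, 0, 0, 0, 0, 0, 0, 0, 0, -1, 0, 0, 0],
    [0, 0, 0, 0, 0, 0, 0, 0, 0, 0, 0, 0, 1, 0],
    [0, 0, 0, 0, 0, 0, 0, 0, 0, 0, 0, 0, -1, 0],
    [0, 0, 0, 0, 0, 0, 0, 0, 0, 0, 0, 0, -1, 0],
    [0, 0, 0, 0, 0, 0, 0, 0, 0, 1, 0, 0, 0, 0],
    [0, 0, 0, 0, 0, 0, 0, 0, 0, 0, 0, 0, 0, 0],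
    [0, 0, 0, 0, 0, 0, 0, 0, 0, 0, 0, 0, 0, 0],
    [0, 0, 0, 0, 0, 0, 0, 0, 0, 0, 0, 0, 0, 0],
    [0, 0, 0, 0, 0, 0, 0, 0, 0, 0, 0, 0, 0, 0],
    [0, 0, 0, 0, 0, 0, 0, 0, 0, 0, 0, 0, 0, 0],
    [0, 0, 0, 0, 0, 0, 0, 0, 0, 0, 0, 0, 0, 0],
    [1, 0, 0, 0, 0, 0, 0, 0, 0, 0, 0, 0, 0, 0],
    [-1, 0, 0, 0, 0, 0, 0, 0, 0, 0, 0, 0, 0, 0],
    [0, 0, 0, 0, 0, 0, 0, 0, 0, 0, 0, 0, 0, 0],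
    [0, 0, 0, 0, 0, 0, 0, 0, 0, 0, 0, 0, 0, 0],
    [0, 0, 0, 0, 0, 0, 0, 0, 0, 0, 0, 0, 0, 0],
    [0, 0, 0, 0, 0, 0, 0, 0, 0, 0, 0, 0, 0, 0],
    [0, 1, 0, 0, 0, 0, 0, 0, 0, 0, 0, 0, 0, 0],
    [0, -1, 0, 0, 0, 0, 0, 0, 0, 0, 0, 0, 0, 0],
    [0, 0, 0, 0, 0, 0, 0, 0, 0, 0, 0, 0, 0, 0],
    [0, 0, 0, 0, 0, 0, 0, 0, 0, 0, 0, 0, 0, 0],
    [0, 0, 1, 0, 0, 0, 0, 0, 0, 0, 0, 0, 0, 0],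
    [0, 0, -1, 0, 0, 0, 0, 0, 0, 0, 0, 0, 0, 0],
    [0, 0, 0, 1, 0, 0, 0, 0, 0, 0, 0, 0, 0, 0],
    [0, 0, 0, -1, 0, 0, 0, 0, 0, 0, 0, 0, 0, 0],
    [0, 0, 0, 0, 0, 0, 0, 0, 0, 0, 0, 0, 0, 0],
    [0, 0, 0, 0, 0, 0, 0, 0, 0, 0, 0, 0, 0, 0],
    [0, 0, 0, 0, 0, 0, 0, 0, 0, 0, 0, 0, 0, 0],
    [0, 0, 0, 0, 0, 0, 0, 0, 0, 0, 0, 0, 0, 0],
    [0, 0, 0, 0, 1, 0, 0, 0, 0, 0, 0, 0, 0, 0],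
    [0, 0, 0, 0, -1, 0, 0, 0, 0, 0, 0, 0, 0, 0],
    [0, 0, 0, 0, 0, 0, 1, 0, 0, 0, 0, 0, 0, 0],
    [0, 0, 0, 0, 0, 0, -1, 0, 0, 0, 0, 0, 0, 0],
    [0, 0, 0, 0, 0, 0, 0, 1, 0, 0, 0, 0, 0, 0],
    [0, 0, 0, 0, 0, 0, 0, -1, 0, 0, 0, 0, 0, 0],
    [0, 0, 0, 0, 0, 0, 0, 0, 1, 0, 0, 0, 0, 0],
    [0, 0, 0, 0, 0, 0, 0, 0, -1, 0, 0, 0, 0, 0]]

/-- Their sources. -/
def srcsA : List (Nat × Nat × Bool) :=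
  [(1, 0, false), (2, 0, false), (4, 0, false), (14, 1, false), (9, 0, false), (11, 1, false), (5, 0, false), (7, 0, false), (8, 0, false), (13, 1, false), (6, 1, false), (19, 1, false), (22, 6, false), (21, 0, false), (16, 12, false), (15, 9, false), (26, 11, false), (25, 0, false), (27, 7, false), (24, 12, false), (28, 1, false), (9, 1, false), (11, 0, false), (8, 1, false), (13, 0, false), (19, 5, false), (20, 8, false), (20, 4, true), (21, 5, false), (23, 12, false), (16, 2, false), (26, 3, false), (26, 7, false), (26, 12, true), (25, 8, false), (25, 5, true), (27, 6, false), (27, 3, true), (27, 7, true), (24, 10, false), (5, 0, false), (5, 1, true), (6, 0, false), (6, 1, true), (7, 0, false), (7, 1, true), (8, 0,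 false), (8, 1, true), (9, 0, false), (9, 1, true), (10, 0, false), (10, 1, true), (11, 0, false), (11, 1, true), (12, 0, false), (12, 1, true), (13, 0, false), (13, 1, true), (14, 0, false), (14, 1, true), (17, 0, false), (17, 5, true), (18, 0, false), (18, 11, true), (19, 0, false), (19, 3, true), (21, 0, false), (21, 1, true), (22, 0, false), (22, 11, true), (23, 0, false), (23, 3, true)]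

/-- Closed paths. -/
def pathsA : List (List Nat × List Int) :=
  [([25, 2, 8, 102, 1, 0, 98, 100, 0, 101, 1], [0, 1, 0, 1, -1, 0, 0, 0, 0, 0, 0, 0, 0, 0]),
    ([27, 2, 9, 102, 103, 1, 101, 1, 102, 1, 101, 1], [0, 2, 0, 2, 0, 2, 0, 0, 0, 0, 0, 0, 0, 0]),
    ([11, 2, 8, 103, 102, 103, 1, 0, 98, 0, 1], [0, 1, 0, 0, -1, 2, 0, 0, 0, 0, 0, 0, 0, 0]),
    ([29, 5, 14, 105, 4, 3, 101, 0, 99, 0, 101, 0, 99, 0, 101, 3, 4], [0, 0, 1, 3, 0, 0, 0, 0, -1, 0, 0, 0, 0, 0]),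
    ([23, 6, 6, 109, 5, 4, 106, 4, 5], [0, 0, 1, 0, 0, 0, 0, 1, 0, 0, 0, 0, 0, 0]),
    ([28, 6, 12, 109, 5, 105, 4, 3, 2, 104, 2, 3, 4, 105, 5], [2, 0, 3, 0, 0, 0, -1, 0, 0, 0, 0, 0, 0, 0]),
    ([3, 13, 4, 112, 12, 112, 12], [0, 0, 0, -3, 0, 0, 0, 0, 0, 0, 0, 0, -2, 0]),
    ([23, 13, 6, 112, 111, 112, 110, 102, 110], [-1, 1, 0, 0, 0, 1, 0, 0, 0, 0, 0, 0, 0, 0]),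
    ([35, 14, 15, 114, 13, 1, 0, 99, 97, 98, 99, 98, 97, 99, 0, 1, 102, 13], [0, 2, 0, 0, 0, 0, 0, 0, 0, 0, 2, 0, 0, 0]),
    ([39, 14, 15, 114, 13, 1, 0, 99, 97, 98, 99, 98, 97, 99, 98, 0, 1, 13], [0, 1, 0, 0, 0, 0, 0, 0, 0, -1, 1, 0, 0, 0]),
    ([38, 3, 15, 115, 117, 19, 119, 18, 118, 11, 111, 12, 110, 102, 103, 1, 2, 104], [1, 0, 0, -2, -1, 3, 0, 0, 0, 0, 0, 3, -1, 0]),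
    ([7, 15, 6, 120, 14, 120, 14, 120, 14], [-3, 3, 3, 0, 3, -6, 3, 0, 0, 0, 0, -6, 3, 0]),
    ([31, 15, 15, 120, 8, 104, 2, 101, 1, 103, 1, 0, 97, 98, 0, 2, 8, 14], [0, 1, 1, 1, 1, -1, 1, 0, 0, 0, 0, -3, 1, 0]),
    ([4, 14, 6, 122, 21, 20, 3, 1, 13], [0, -1, 0, 0, 0, 0, 0, 1, 0, -1, -1, 0, 0, 0]),
    ([34, 9, 15, 125, 127, 125, 9, 113, 9, 125, 127, 45, 126, 28, 108, 107, 104, 8], [1, 2, 0, 0, 0, -1, 0, 3, 0, 0, 1, 0, 0, 0]),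
    ([21, 95, 9, 95, 150, 94, 95, 150, 94, 95, 150, 94], [0, 9, -3, 0, 0, 0, 0, 3, 0, -3, -3, 0, 0, 6])]

/-- The certificate. -/
def certA : VCert :=
  ⟨relWordsA, relValsA, [[0],
    [1],
    [2],
    [3]], tabFA, tabCA, tabVA, 97, 54, 14, 256, 0, pathsA⟩

/-- Table. -/
def tabFB : Tab :=
  tabFB_0

/-- Table. -/
def tabCB : Tab :=
  tabCB_0

/-- Table. -/
def tabVB : Tab :=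
  (.node 2048 tabVB_0 (.node 2048 tabVB_1 tabVB_2))

/-- Relator words. -/
def relWordsB : List (List Nat) :=
  [[0, 0],
    [1, 1],
    [2, 2],
    [3, 3],
    [4, 4],
    [4, 3, 4, 3],
    [1, 2, 1, 2, 1, 2],
    [4, 1, 4, 1, 4, 1],
    [0, 1, 0, 1, 0, 1],
    [0, 3, 0, 3, 0, 3],
    [0, 4, 0, 4, 0, 4],
    [3, 2, 3, 2, 3, 2],
    [4, 2, 4, 2, 4, 2, 4, 2],
    [2, 0, 2, 0, 2, 0, 2, 0],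
    [1, 3, 1, 3, 1, 3, 1, 3],
    [3, 4, 3, 1, 4, 1, 4, 1],
    [1, 4, 1, 3, 1, 3, 4, 1, 3],
    [3, 0, 3, 2, 4, 2, 0, 2, 4, 2, 3, 0],
    [0, 2, 4, 2, 0, 4, 0, 2, 4, 2, 0, 4],
    [4, 2, 4, 3, 2, 4, 2, 4, 2, 3, 4, 2, 4, 3],
    [0, 2, 1, 0, 1, 2, 0, 1, 2, 1, 0, 2, 0, 1, 2],
    [2, 0, 1, 2, 0, 2, 0, 1, 0, 2, 0, 1, 2, 1, 0],
    [4, 0, 1, 4, 0, 1, 3, 0, 1, 4, 0, 3, 1, 3, 1],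
    [0, 1, 2, 1, 0, 2, 4, 1, 2, 0, 2, 4, 1, 4, 2],
    [3, 4, 0, 1, 3, 4, 0, 3, 0, 1, 3, 0, 4, 1, 0],
    [1, 4, 2, 0, 1, 2, 1, 0, 2, 1, 4, 1, 2, 0, 2],
    [2, 4, 1, 2, 4, 1, 2, 4, 1, 2, 4, 1, 2, 4, 1],
    [1, 0, 2, 3, 0, 2, 3, 1, 3, 2, 0, 3, 2, 0, 1, 2],
    [0, 2, 1, 0, 2, 3, 0, 3, 2, 0, 1, 2, 0, 1, 3, 1],
    [3, 4, 3, 4],
    [2, 1, 2, 1, 2, 1],
    [1, 4, 1, 4, 1, 4],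
    [1, 0, 1, 0, 1, 0],
    [3, 0, 3, 0, 3, 0],
    [4, 0, 4, 0, 4, 0],
    [2, 3, 2, 3, 2, 3],
    [2, 4, 2, 4, 2, 4, 2, 4],
    [0, 2, 0, 2, 0, 2, 0, 2],
    [3, 1, 3, 1, 3, 1, 3, 1],
    [4, 3, 1, 4, 1, 4, 1, 3],
    [3, 1, 4, 1, 4, 1, 3, 4],
    [1, 4, 1, 4, 1, 3, 4, 3],
    [4, 1, 4, 1, 3, 4, 3, 1],
    [4, 1, 3, 4, 3, 1, 4, 1],
    [1, 3, 4, 3, 1, 4, 1, 4],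
    [4, 1, 3, 1, 3, 4, 1, 3, 1],
    [1, 3, 1, 3, 4, 1, 3, 1, 4],
    [3, 1, 3, 4, 1, 3, 1, 4, 1],
    [1, 3, 4, 1, 3, 1, 4, 1, 3],
    [3, 4, 1, 3, 1, 4, 1, 3, 1],
    [4, 1, 3, 1, 4, 1, 3, 1, 3],
    [1, 3, 1, 4, 1, 3, 1, 3, 4],
    [3, 1, 4, 1, 3, 1, 3, 4, 1],
    [3, 1, 4, 3, 1, 3, 1, 4, 1],
    [4, 3, 1, 3, 1, 4, 1, 3, 1],
    [3, 1, 3, 1, 4, 1, 3, 1, 4],
    [1, 3, 1, 4, 3, 1, 3, 1, 4],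
    [3, 2, 4, 2, 0, 2, 4, 2, 3, 0, 3, 0],
    [2, 4, 2, 0, 2, 4, 2, 3, 0, 3, 0, 3],
    [4, 2, 0, 2, 4, 2, 3, 0, 3, 0, 3, 2],
    [2, 0, 2, 4, 2, 3, 0, 3, 0, 3, 2, 4],
    [2, 4, 2, 3, 0, 3, 0, 3, 2, 4, 2, 0],
    [2, 3, 0, 3, 0, 3, 2, 4, 2, 0, 2, 4],
    [4, 0, 2, 4, 2, 0, 4, 0, 2, 4, 2, 0],
    [4, 3, 2, 4, 2, 4, 2, 3, 4, 2, 4, 3, 4, 2],
    [3, 2, 4, 2, 4, 2, 3, 4, 2, 4, 3, 4, 2, 4],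
    [2, 4, 2, 3, 4, 2, 4, 3, 4, 2, 4, 3, 2, 4],
    [3, 4, 2, 4, 3, 4, 2, 4, 3, 2, 4, 2, 4, 2],
    [3, 4, 2, 4, 3, 2, 4, 2, 4, 2, 3, 4, 2, 4],
    [2, 1, 0, 1, 2, 0, 1, 2, 1, 0, 2, 0, 1, 2, 0],
    [0, 1, 2, 0, 1, 2, 1, 0, 2, 0, 1, 2, 0, 2, 1],
    [1, 2, 0, 1, 2, 1, 0, 2, 0, 1, 2, 0, 2, 1, 0],
    [2, 0, 1, 2, 1, 0, 2, 0, 1, 2, 0, 2, 1, 0, 1],
    [0, 1, 2, 1, 0, 2, 0, 1, 2, 0, 2, 1, 0, 1, 2],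
    [2, 1, 0, 2, 0, 1, 2, 0, 2, 1, 0, 1, 2, 0, 1],
    [1, 0, 2, 0, 1, 2, 0, 2, 1, 0, 1, 2, 0, 1, 2],
    [0, 2, 0, 1, 2, 0, 2, 1, 0, 1, 2, 0, 1, 2, 1],
    [2, 0, 1, 2, 0, 2, 1, 0, 1, 2, 0, 1, 2, 1, 0],
    [0, 1, 2, 0, 2, 1, 0, 1, 2, 0, 1, 2, 1, 0, 2],
    [1, 2, 0, 2, 1, 0, 1, 2, 0, 1, 2, 1, 0, 2, 0],
    [2, 0, 2, 1, 0, 1, 2, 0, 1, 2, 1, 0, 2, 0, 1],
    [1, 0, 2, 0, 1, 2, 1, 0, 2, 1, 0, 1, 2, 0, 2],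
    [0, 2, 0, 1, 2, 1, 0, 2, 1, 0, 1, 2, 0, 2, 1],
    [0, 1, 2, 1, 0, 2, 1, 0, 1, 2, 0, 2, 1, 0, 2],
    [1, 2, 1, 0, 2, 1, 0, 1, 2, 0, 2, 1, 0, 2, 0],
    [2, 1, 0, 2, 1, 0, 1, 2, 0, 2, 1, 0, 2, 0, 1],
    [1, 0, 2, 1, 0, 1, 2, 0, 2, 1, 0, 2, 0, 1, 2],
    [0, 2, 1, 0, 1, 2, 0, 2, 1, 0, 2, 0, 1, 2, 1],
    [1, 2, 0, 2, 1, 0, 2, 0, 1, 2, 1, 0, 2, 1, 0],
    [2, 0, 2, 1, 0, 2, 0, 1, 2, 1, 0, 2, 1, 0, 1],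
    [0, 2, 1, 0, 2, 0, 1, 2, 1, 0, 2, 1, 0, 1, 2],
    [0, 1, 2, 0, 2, 0, 1, 0, 2, 0, 1, 2, 1, 0, 2],
    [2, 0, 2, 0, 1, 0, 2, 0, 1, 2, 1, 0, 2, 0, 1],
    [0, 2, 0, 1, 0, 2, 0, 1, 2, 1, 0, 2, 0, 1, 2],
    [2, 0, 1, 0, 2, 0, 1, 2, 1, 0, 2, 0, 1, 2, 0],
    [1, 2, 1, 0, 2, 0, 1, 2, 0, 2, 0, 1, 0, 2, 0],
    [0, 2, 0, 1, 2, 0, 2, 0, 1, 0, 2, 0, 1, 2, 1],
    [1, 0, 2, 0, 1, 0, 2, 0, 2, 1, 0, 2, 0, 1, 2],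
    [1, 0, 2, 0, 2, 1, 0, 2, 0, 1, 2, 1, 0, 2, 0],
    [2, 1, 0, 2, 0, 1, 2, 1, 0, 2, 0, 1, 0, 2, 0],
    [1, 4, 0, 1, 3, 0, 1, 4, 0, 3, 1, 3, 1, 4, 0],
    [4, 0, 1, 3, 0, 1, 4, 0, 3, 1, 3, 1, 4, 0, 1],
    [0, 1, 3, 0, 1, 4, 0, 3, 1, 3, 1, 4, 0, 1, 4],
    [3, 0, 1, 4, 0, 3, 1, 3, 1, 4, 0, 1, 4, 0, 1],
    [0, 1, 4, 0, 3, 1, 3, 1, 4, 0, 1, 4, 0, 1, 3],
    [4, 0, 3, 1, 3, 1, 4, 0, 1, 4, 0, 1, 3, 0, 1],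
    [0, 3, 1, 3, 1, 4, 0, 1, 4, 0, 1, 3, 0, 1, 4],
    [3, 1, 3, 1, 4, 0, 1, 4, 0, 1, 3, 0, 1, 4, 0],
    [1, 3, 1, 4, 0, 1, 4, 0, 1, 3, 0, 1, 4, 0, 3],
    [3, 1, 4, 0, 1, 4, 0, 1, 3, 0, 1, 4, 0, 3, 1],
    [1, 4, 0, 1, 4, 0, 1, 3, 0, 1, 4, 0, 3, 1, 3],
    [1, 3, 1, 3, 0, 4, 1, 0, 3, 1, 0, 4, 1, 0, 4],
    [3, 0, 4, 1, 0, 3, 1, 0, 4, 1, 0, 4, 1, 3, 1],
    [4, 1, 0, 3, 1, 0, 4, 1, 0, 4, 1, 3, 1, 3, 0],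
    [3, 1, 0, 4, 1, 0, 4, 1, 3, 1, 3, 0, 4, 1, 0],
    [0, 4, 1, 0, 4, 1, 3, 1, 3, 0, 4, 1, 0, 3, 1],
    [4, 1, 0, 4, 1, 3, 1, 3, 0, 4, 1, 0, 3, 1, 0],
    [0, 4, 1, 3, 1, 3, 0, 4, 1, 0, 3, 1, 0, 4, 1],
    [4, 1, 3, 1, 3, 0, 4, 1, 0, 3, 1, 0, 4, 1, 0],
    [1, 2, 1, 0, 2, 4, 1, 2, 0, 2, 4, 1, 4, 2, 0],
    [2, 1, 0, 2, 4, 1, 2, 0, 2, 4, 1, 4, 2, 0, 1],
    [1, 0, 2, 4, 1, 2, 0, 2, 4, 1, 4, 2, 0, 1, 2],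
    [0, 2, 4, 1, 2, 0, 2, 4, 1, 4, 2, 0, 1, 2, 1],
    [4, 1, 2, 0, 2, 4, 1, 4, 2, 0, 1, 2, 1, 0, 2],
    [1, 2, 0, 2, 4, 1, 4, 2, 0, 1, 2, 1, 0, 2, 4],
    [2, 0, 2, 4, 1, 4, 2, 0, 1, 2, 1, 0, 2, 4, 1],
    [0, 2, 4, 1, 4, 2, 0, 1, 2, 1, 0, 2, 4, 1, 2],
    [2, 4, 1, 4, 2, 0, 1, 2, 1, 0, 2, 4, 1, 2, 0],
    [4, 1, 4, 2, 0, 1, 2, 1, 0, 2, 4, 1, 2, 0, 2],
    [1, 4, 2, 0, 2, 1, 4, 2, 0, 1, 2, 1, 0, 2, 4],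
    [0, 2, 1, 4, 2, 0, 1, 2, 1, 0, 2, 4, 1, 4, 2],
    [1, 4, 2, 0, 1, 2, 1, 0, 2, 4, 1, 4, 2, 0, 2],
    [4, 0, 1, 3, 4, 0, 3, 0, 1, 3, 0, 4, 1, 0, 3],
    [0, 1, 3, 4, 0, 3, 0, 1, 3, 0, 4, 1, 0, 3, 4],
    [3, 4, 0, 3, 0, 1, 3, 0, 4, 1, 0, 3, 4, 0, 1],
    [4, 0, 3, 0, 1, 3, 0, 4, 1, 0, 3, 4, 0, 1, 3],
    [0, 3, 0, 1, 3, 0, 4, 1, 0, 3, 4, 0, 1, 3, 4],
    [0, 4, 1, 0, 3, 4, 0, 1, 3, 4, 0, 3, 0, 1, 3],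
    [4, 1, 0, 3, 4, 0, 1, 3, 4, 0, 3, 0, 1, 3, 0],
    [1, 0, 3, 4, 0, 1, 3, 4, 0, 3, 0, 1, 3, 0, 4],
    [0, 3, 4, 0, 1, 3, 4, 0, 3, 0, 1, 3, 0, 4, 1],
    [0, 1, 4, 0, 3, 1, 0, 3, 0, 4, 3, 1, 0, 4, 3],
    [1, 4, 0, 3, 1, 0, 3, 0, 4, 3, 1, 0, 4, 3, 0],
    [0, 3, 0, 4, 3, 1, 0, 4, 3, 0, 1, 4, 0, 3, 1],
    [3, 0, 4, 3, 1, 0, 4, 3, 0, 1, 4, 0, 3, 1, 0],
    [4, 3, 1, 0, 4, 3, 0, 1, 4, 0, 3, 1, 0, 3, 0],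
    [3, 1, 0, 4, 3, 0, 1, 4, 0, 3, 1, 0, 3, 0, 4],
    [0, 4, 3, 0, 1, 4, 0, 3, 1, 0, 3, 0, 4, 3, 1],
    [4, 3, 0, 1, 4, 0, 3, 1, 0, 3, 0, 4, 3, 1, 0],
    [3, 0, 1, 4, 0, 3, 1, 0, 3, 0, 4, 3, 1, 0, 4],
    [1, 4, 1, 2, 0, 2, 1, 4, 2, 0, 1, 2, 1, 0, 2],
    [2, 1, 4, 1, 2, 0, 1, 2, 1, 0, 2, 4, 1, 2, 0],
    [1, 0, 2, 4, 1, 2, 0, 2, 1, 4, 1, 2, 0, 1, 2],
    [0, 2, 4, 1, 2, 0, 2, 1, 4, 1, 2, 0, 1, 2, 1],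
    [0, 2, 3, 0, 2, 3, 1, 3, 2, 0, 3, 2, 0, 1, 2, 1],
    [2, 3, 0, 2, 3, 1, 3, 2, 0, 3, 2, 0, 1, 2, 1, 0],
    [3, 0, 2, 3, 1, 3, 2, 0, 3, 2, 0, 1, 2, 1, 0, 2],
    [0, 2, 3, 1, 3, 2, 0, 3, 2, 0, 1, 2, 1, 0, 2, 3],
    [2, 3, 1, 3, 2, 0, 3, 2, 0, 1, 2, 1, 0, 2, 3, 0],
    [3, 1, 3, 2, 0, 3, 2, 0, 1, 2, 1, 0, 2, 3, 0, 2],
    [1, 3, 2, 0, 3, 2, 0, 1, 2, 1, 0, 2, 3, 0, 2, 3],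
    [3, 2, 0, 3, 2, 0, 1, 2, 1, 0, 2, 3, 0, 2, 3, 1],
    [2, 0, 3, 2, 0, 1, 2, 1, 0, 2, 3, 0, 2, 3, 1, 3],
    [0, 3, 2, 0, 1, 2, 1, 0, 2, 3, 0, 2, 3, 1, 3, 2],
    [3, 2, 0, 1, 2, 1, 0, 2, 3, 0, 2, 3, 1, 3, 2, 0],
    [1, 2, 1, 0, 2, 3, 0, 2, 3, 1, 3, 2, 0, 3, 2, 0],
    [2, 1, 0, 2, 3, 0, 2, 3, 1, 3, 2, 0, 3, 2, 0, 1],
    [2, 1, 0, 2, 3, 0, 3, 2, 0, 1, 2, 0, 1, 3, 1, 0],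
    [1, 0, 2, 3, 0, 3, 2, 0, 1, 2, 0, 1, 3, 1, 0, 2],
    [0, 2, 3, 0, 3, 2, 0, 1, 2, 0, 1, 3, 1, 0, 2, 1],
    [2, 3, 0, 3, 2, 0, 1, 2, 0, 1, 3, 1, 0, 2, 1, 0],
    [3, 0, 3, 2, 0, 1, 2, 0, 1, 3, 1, 0, 2, 1, 0, 2],
    [0, 3, 2, 0, 1, 2, 0, 1, 3, 1, 0, 2, 1, 0, 2, 3],
    [3, 2, 0, 1, 2, 0, 1, 3, 1, 0, 2, 1, 0, 2, 3, 0],
    [2, 0, 1, 2, 0, 1, 3, 1, 0, 2, 1, 0, 2, 3, 0, 3],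
    [0, 1, 2, 0, 1, 3, 1, 0, 2, 1, 0, 2, 3, 0, 3, 2],
    [1, 2, 0, 1, 3, 1, 0, 2, 1, 0, 2, 3, 0, 3, 2, 0],
    [2, 0, 1, 3, 1, 0, 2, 1, 0, 2, 3, 0, 3, 2, 0, 1],
    [0, 1, 3, 1, 0, 2, 1, 0, 2, 3, 0, 3, 2, 0, 1, 2],
    [1, 3, 1, 0, 2, 1, 0, 2, 3, 0, 3, 2, 0, 1, 2, 0],
    [3, 1, 0, 2, 1, 0, 2, 3, 0, 3, 2, 0, 1, 2, 0, 1],
    [0, 1, 0, 1, 0, 1],
    [0, 1, 0, 1, 0, 1],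
    [0, 2, 0, 2, 0, 2, 0, 2],
    [0, 2, 0, 2, 0, 2, 0, 2],
    [0, 3, 0, 3, 0, 3],
    [0, 3, 0, 3, 0, 3],
    [0, 4, 0, 4, 0, 4],
    [0, 4, 0, 4, 0, 4],
    [1, 2, 1, 2, 1, 2],
    [1, 2, 1, 2, 1, 2],
    [1, 3, 1, 3, 1, 3, 1, 3],
    [1, 3, 1, 3, 1, 3, 1, 3],
    [1, 4, 1, 4, 1, 4],
    [1, 4, 1, 4, 1, 4],
    [2, 3, 2, 3, 2, 3],
    [2, 3, 2, 3, 2, 3],
    [2, 4, 2, 4, 2, 4, 2, 4],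
    [2, 4, 2, 4, 2, 4, 2, 4],
    [3, 4, 3, 4],
    [3, 4, 3, 4],
    [0, 1, 2, 0, 1, 3, 1, 0, 2, 1, 0, 2, 3, 0, 3, 2],
    [0, 1, 2, 0, 1, 3, 1, 0, 2, 1, 0, 2, 3, 0, 3, 2],
    [0, 1, 2, 1, 0, 2, 3, 0, 2, 3, 1, 3, 2, 0, 3, 2],
    [0, 1, 2, 1, 0, 2, 3, 0, 2, 3, 1, 3, 2, 0, 3, 2],
    [1, 3, 4, 3, 1, 4, 1, 4],
    [1, 3, 4, 3, 1, 4, 1, 4],
    [0, 2, 4, 2, 0, 4, 0, 2, 4, 2, 0, 4],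
    [0, 2, 4, 2, 0, 4, 0, 2, 4, 2, 0, 4],
    [0, 2, 4, 2, 3, 0, 3, 0, 3, 2, 4, 2],
    [0, 2, 4, 2, 3, 0, 3, 0, 3, 2, 4, 2],
    [2, 3, 4, 2, 4, 3, 4, 2, 4, 3, 2, 4, 2, 4],
    [2, 3, 4, 2, 4, 3, 4, 2, 4, 3, 2, 4, 2, 4]]

/-- Their values. -/
def relValsB : List (List Int) :=
  [[0, 0, 0, 0, 0, 0, 0, 0, 0, 0, 0, 0, 0, 0],
    [0, 0, 0, 0, 0, 0, 0, 0, 0, 0, 0, 0, 0, 0],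
    [0, 0, 0, 0, 0, 0, 0, 0, 0, 0, 0, 0, 0, 0],
    [0, 0, 0, 0, 0, 0, 0, 0, 0, 0, 0, 0, 0, 0],
    [0, 0, 0, 0, 0, 0, 0, 0, 0, 0, 0, 0, 0, 0],
    [0, 0, 0, 1, 0, 0, 0, 0, 0, 0, 0, 0, 0, 0],
    [0, 0, 0, 0, 0, 0, 0, 0, 0, 0, 0, 0, 0, 0],
    [0, 1, 0, 0, 0, 0, 0, 0, 0, 0, 0, 0, 0, 0],
    [0, 0, 0, 0, 0, 0, 0, 0, 0, 0, 0, 0, 0, 0],
    [0, 0, 0, 0, 0, 0, 0, 0, 0, 0, 0, 0, 0, 0],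
    [1, 0, 0, 0, 0, 0, 0, 0, 0, 0, 0, 0, 0, 0],
    [0, 0, 0, 0, 0, 0, 0, 0, 0, 0, 0, 0, 0, 0],
    [0, 0, 1, 0, 0, 0, 0, 0, 0, 0, 0, 0, 0, 0],
    [0, 0, 0, 0, 0, 0, 0, 0, 0, 0, 0, 0, 0, 0],
    [0, 0, 0, 0, 0, 0, 0, 0, 0, 0, 0, 0, 0, 0],
    [0, 0, 0, 0, 1, 0, 0, 0, 0, 0, 0, 0, 0, 0],
    [0, 0, 0, 0, 0, 1, 0, 0, 0, 0, 0, 0, 0, 0],
    [0, 0, 0, 0, 0, 0, 0, 1, 0, 0, 0, 0, 0, 0],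
    [0, 0, 0, 0, 0, 0, 1, 0, 0, 0, 0, 0, 0, 0],
    [0, 0, 0, 0, 0, 0, 0, 0, 1, 0, 0, 0, 0, 0],
    [0, 0, 0, 0, 0, 0, 0, 0, 0, 0, 0, 0, 0, 0],
    [0, 0, 0, 0, 0, 0, 0, 0, 0, 0, 0, 0, 0, 0],
    [0, 0, 0, 0, 0, 0, 0, 0, 0, 0, 0, 1, 0, 0],
    [0, 0, 0, 0, 0, 0, 0, 0, 0, 0, 1, 0, 0, 0],
    [0, 0, 0, 0, 0, 0, 0, 0, 0, 0, 0, 0, 1, 0],
    [0, 0, 0, 0, 0, 0, 0, 0, 0, 1, 0, 0, 0, 0],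
    [0, 0, 0, 0, 0, 0, 0, 0, 0, 0, 0, 0, 0, 1],
    [0, 0, 0, 0, 0, 0, 0, 0, 0, 0, 0, 0, 0, 0],
    [0, 0, 0, 0, 0, 0, 0, 0, 0, 0, 0, 0, 0, 0],
    [0, 0, 0, 1, 0, 0, 0, 0, 0, 0, 0, 0, 0, 0],
    [0, 0, 0, 0, 0, 0, 0, 0, 0, 0, 0, 0, 0, 0],
    [0, 1, 0, 0, 0, 0, 0, 0, 0, 0, 0, 0, 0, 0],
    [0, 0, 0, 0, 0, 0, 0, 0, 0, 0, 0, 0, 0, 0],
    [0, 0, 0, 0, 0, 0, 0, 0, 0, 0, 0, 0, 0, 0],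
    [1, 0, 0, 0, 0, 0, 0, 0, 0, 0, 0, 0, 0, 0],
    [0, 0, 0, 0, 0, 0, 0, 0, 0, 0, 0, 0, 0, 0],
    [0, 0, 1, 0, 0, 0, 0, 0, 0, 0, 0, 0, 0, 0],
    [0, 0, 0, 0, 0, 0, 0, 0, 0, 0, 0, 0, 0, 0],
    [0, 0, 0, 0, 0, 0, 0, 0, 0, 0, 0, 0, 0, 0],
    [0, 0, 0, 0, 1, 0, 0, 0, 0, 0, 0, 0, 0, 0],
    [0, 0, 0, 0, 1, 0, 0, 0, 0, 0, 0, 0, 0, 0],
    [0, 0, 0, 0, 1, 0, 0, 0, 0, 0, 0, 0, 0, 0],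
    [0, 0, 0, 0, 1, 0, 0, 0, 0, 0, 0, 0, 0, 0],
    [0, 0, 0, 0, 1, 0, 0, 0, 0, 0, 0, 0, 0, 0],
    [0, 0, 0, 0, 1, 0, 0, 0, 0, 0, 0, 0, 0, 0],
    [0, 0, 0, 0, 0, 1, 0, 0, 0, 0, 0, 0, 0, 0],
    [0, 0, 0, 0, 0, 1, 0, 0, 0, 0, 0, 0, 0, 0],
    [0, 0, 0, 0, 0, 1, 0, 0, 0, 0, 0, 0, 0, 0],
    [0, 0, 0, 0, 0, 1, 0, 0, 0, 0, 0, 0, 0, 0],
    [0, 0, 0, 0, 0, 1, 0, 0, 0, 0, 0, 0, 0, 0],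
    [0, 0, 0, 0, 0, 1, 0, 0, 0, 0, 0, 0, 0, 0],
    [0, 0, 0, 0, 0, 1, 0, 0, 0, 0, 0, 0, 0, 0],
    [0, 0, 0, 0, 0, 1, 0, 0, 0, 0, 0, 0, 0, 0],
    [0, 0, 0, 0, 0, -1, 0, 0, 0, 0, 0, 0, 0, 0],
    [0, 0, 0, 0, 0, -1, 0, 0, 0, 0, 0, 0, 0, 0],
    [0, 0, 0, 0, 0, -1, 0, 0, 0, 0, 0, 0, 0, 0],
    [0, 0, 0, 0, 0, -1, 0, 0, 0, 0, 0, 0, 0, 0],
    [0, 0, 0, 0, 0, 0, 0, 1, 0, 0, 0, 0, 0, 0],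
    [0, 0, 0, 0, 0, 0, 0, 1, 0, 0, 0, 0, 0, 0],
    [0, 0, 0, 0, 0, 0, 0, 1, 0, 0, 0, 0, 0, 0],
    [0, 0, 0, 0, 0, 0, 0, 1, 0, 0, 0, 0, 0, 0],
    [0, 0, 0, 0, 0, 0, 0, 1, 0, 0, 0, 0, 0, 0],
    [0, 0, 0, 0, 0, 0, 0, 1, 0, 0, 0, 0, 0, 0],
    [0, 0, 0, 0, 0, 0, 1, 0, 0, 0, 0, 0, 0, 0],
    [0, 0, 0, 0, 0, 0, 0, 0, 1, 0, 0, 0, 0, 0],
    [0, 0, 0, 0, 0, 0, 0, 0, 1, 0, 0, 0, 0, 0],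
    [0, 0, 0, 0, 0, 0, 0, 0, 1, 0, 0, 0, 0, 0],
    [0, 0, 0, 0, 0, 0, 0, 0, 1, 0, 0, 0, 0, 0],
    [0, 0, 0, 0, 0, 0, 0, 0, 1, 0, 0, 0, 0, 0],
    [0, 0, 0, 0, 0, 0, 0, 0, 0, 0, 0, 0, 0, 0],
    [0, 0, 0, 0, 0, 0, 0, 0, 0, 0, 0, 0, 0, 0],
    [0, 0, 0, 0, 0, 0, 0, 0, 0, 0, 0, 0, 0, 0],
    [0, 0, 0, 0, 0, 0, 0, 0, 0, 0, 0, 0, 0, 0],
    [0, 0, 0, 0, 0, 0, 0, 0, 0, 0, 0, 0, 0, 0],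
    [0, 0, 0, 0, 0, 0, 0, 0, 0, 0, 0, 0, 0, 0],
    [0, 0, 0, 0, 0, 0, 0, 0, 0, 0, 0, 0, 0, 0],
    [0, 0, 0, 0, 0, 0, 0, 0, 0, 0, 0, 0, 0, 0],
    [0, 0, 0, 0, 0, 0, 0, 0, 0, 0, 0, 0, 0, 0],
    [0, 0, 0, 0, 0, 0, 0, 0, 0, 0, 0, 0, 0, 0],
    [0, 0, 0, 0, 0, 0, 0, 0, 0, 0, 0, 0, 0, 0],
    [0, 0, 0, 0, 0, 0, 0, 0, 0, 0, 0, 0, 0, 0],
    [0, 0, 0, 0, 0, 0, 0, 0, 0, 0, 0, 0, 0, 0],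
    [0, 0, 0, 0, 0, 0, 0, 0, 0, 0, 0, 0, 0, 0],
    [0, 0, 0, 0, 0, 0, 0, 0, 0, 0, 0, 0, 0, 0],
    [0, 0, 0, 0, 0, 0, 0, 0, 0, 0, 0, 0, 0, 0],
    [0, 0, 0, 0, 0, 0, 0, 0, 0, 0, 0, 0, 0, 0],
    [0, 0, 0, 0, 0, 0, 0, 0, 0, 0, 0, 0, 0, 0],
    [0, 0, 0, 0, 0, 0, 0, 0, 0, 0, 0, 0, 0, 0],
    [0, 0, 0, 0, 0, 0, 0, 0, 0, 0, 0, 0, 0, 0],
    [0, 0, 0, 0, 0, 0, 0, 0, 0, 0, 0, 0, 0, 0],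
    [0, 0, 0, 0, 0, 0, 0, 0, 0, 0, 0, 0, 0, 0],
    [0, 0, 0, 0, 0, 0, 0, 0, 0, 0, 0, 0, 0, 0],
    [0, 0, 0, 0, 0, 0, 0, 0, 0, 0, 0, 0, 0, 0],
    [0, 0, 0, 0, 0, 0, 0, 0, 0, 0, 0, 0, 0, 0],
    [0, 0, 0, 0, 0, 0, 0, 0, 0, 0, 0, 0, 0, 0],
    [0, 0, 0, 0, 0, 0, 0, 0, 0, 0, 0, 0, 0, 0],
    [0, 0, 0, 0, 0, 0, 0, 0, 0, 0, 0, 0, 0, 0],
    [0, 0, 0, 0, 0, 0, 0, 0, 0, 0, 0, 0, 0, 0],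
    [0, 0, 0, 0, 0, 0, 0, 0, 0, 0, 0, 0, 0, 0],
    [0, 0, 0, 0, 0, 0, 0, 0, 0, 0, 0, 0, 0, 0],
    [0, 0, 0, 0, 0, 0, 0, 0, 0, 0, 0, 1, 0, 0],
    [0, 0, 0, 0, 0, 0, 0, 0, 0, 0, 0, 1, 0, 0],
    [0, 0, 0, 0, 0, 0, 0, 0, 0, 0, 0, 1, 0, 0],
    [0, 0, 0, 0, 0, 0, 0, 0, 0, 0, 0, 1, 0, 0],
    [0, 0, 0, 0, 0, 0, 0, 0, 0, 0, 0, 1, 0, 0],
    [0, 0, 0, 0, 0, 0, 0, 0, 0, 0, 0, 1, 0, 0],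
    [0, 0, 0, 0, 0, 0, 0, 0, 0, 0, 0, 1, 0, 0],
    [0, 0, 0, 0, 0, 0, 0, 0, 0, 0, 0, 1, 0, 0],
    [0, 0, 0, 0, 0, 0, 0, 0, 0, 0, 0, 1, 0, 0],
    [0, 0, 0, 0, 0, 0, 0, 0, 0, 0, 0, 1, 0, 0],
    [0, 0, 0, 0, 0, 0, 0, 0, 0, 0, 0, 1, 0, 0],
    [0, 0, 0, 0, 0, 0, 0, 0, 0, 0, 0, -1, 0, 0],
    [0, 0, 0, 0, 0, 0, 0, 0, 0, 0, 0, -1, 0, 0],
    [0, 0, 0, 0, 0, 0, 0, 0, 0, 0, 0, -1, 0, 0],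
    [0, 0, 0, 0, 0, 0, 0, 0, 0, 0, 0, -1, 0, 0],
    [0, 0, 0, 0, 0, 0, 0, 0, 0, 0, 0, -1, 0, 0],
    [0, 0, 0, 0, 0, 0, 0, 0, 0, 0, 0, -1, 0, 0],
    [0, 0, 0, 0, 0, 0, 0, 0, 0, 0, 0, -1, 0, 0],
    [0, 0, 0, 0, 0, 0, 0, 0, 0, 0, 0, -1, 0, 0],
    [0, 0, 0, 0, 0, 0, 0, 0, 0, 0, 1, 0, 0, 0],
    [0, 0, 0, 0, 0, 0, 0, 0, 0, 0, 1, 0, 0, 0],
    [0, 0, 0, 0, 0, 0, 0, 0, 0, 0, 1, 0, 0, 0],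
    [0, 0, 0, 0, 0, 0, 0, 0, 0, 0, 1, 0, 0, 0],
    [0, 0, 0, 0, 0, 0, 0, 0, 0, 0, 1, 0, 0, 0],
    [0, 0, 0, 0, 0, 0, 0, 0, 0, 0, 1, 0, 0, 0],
    [0, 0, 0, 0, 0, 0, 0, 0, 0, 0, 1, 0, 0, 0],
    [0, 0, 0, 0, 0, 0, 0, 0, 0, 0, 1, 0, 0, 0],
    [0, 0, 0, 0, 0, 0, 0, 0, 0, 0, 1, 0, 0, 0],
    [0, 0, 0, 0, 0, 0, 0, 0, 0, 0, 1, 0, 0, 0],
    [0, 0, 0, 0, 0, 0, 0, 0, 0, 0, -1, 0, 0, 0],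
    [0, 0, 0, 0, 0, 0, 0, 0, 0, 0, -1, 0, 0, 0],
    [0, 0, 0, 0, 0, 0, 0, 0, 0, 0, -1, 0, 0, 0],
    [0, 0, 0, 0, 0, 0, 0, 0, 0, 0, 0, 0, 1, 0],
    [0, 0, 0, 0, 0, 0, 0, 0, 0, 0, 0, 0, 1, 0],
    [0, 0, 0, 0, 0, 0, 0, 0, 0, 0, 0, 0, 1, 0],
    [0, 0, 0, 0, 0, 0, 0, 0, 0, 0, 0, 0, 1, 0],
    [0, 0, 0, 0, 0, 0, 0, 0, 0, 0, 0, 0, 1, 0],
    [0, 0, 0, 0, 0, 0, 0, 0, 0, 0, 0, 0, 1, 0],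
    [0, 0, 0, 0, 0, 0, 0, 0, 0, 0, 0, 0, 1, 0],
    [0, 0, 0, 0, 0, 0, 0, 0, 0, 0, 0, 0, 1, 0],
    [0, 0, 0, 0, 0, 0, 0, 0, 0, 0, 0, 0, 1, 0],
    [0, 0, 0, 0, 0, 0, 0, 0, 0, 0, 0, 0, -1, 0],
    [0, 0, 0, 0, 0, 0, 0, 0, 0, 0, 0, 0, -1, 0],
    [0, 0, 0, 0, 0, 0, 0, 0, 0, 0, 0, 0, -1, 0],
    [0, 0, 0, 0, 0, 0, 0, 0, 0, 0, 0, 0, -1, 0],
    [0, 0, 0, 0, 0, 0, 0, 0, 0, 0, 0, 0, -1, 0],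
    [0, 0, 0, 0, 0, 0, 0, 0, 0, 0, 0, 0, -1, 0],
    [0, 0, 0, 0, 0, 0, 0, 0, 0, 0, 0, 0, -1, 0],
    [0, 0, 0, 0, 0, 0, 0, 0, 0, 0, 0, 0, -1, 0],
    [0, 0, 0, 0, 0, 0, 0, 0, 0, 0, 0, 0, -1, 0],
    [0, 0, 0, 0, 0, 0, 0, 0, 0, 1, 0, 0, 0, 0],
    [0, 0, 0, 0, 0, 0, 0, 0, 0, -1, 0, 0, 0, 0],
    [0, 0, 0, 0, 0, 0, 0, 0, 0, -1, 0, 0, 0, 0],
    [0, 0, 0, 0, 0, 0, 0, 0, 0, -1, 0, 0, 0, 0],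
    [0, 0, 0, 0, 0, 0, 0, 0, 0, 0, 0, 0, 0, 0],
    [0, 0, 0, 0, 0, 0, 0, 0, 0, 0, 0, 0, 0, 0],
    [0, 0, 0, 0, 0, 0, 0, 0, 0, 0, 0, 0, 0, 0],
    [0, 0, 0, 0, 0, 0, 0, 0, 0, 0, 0, 0, 0, 0],
    [0, 0, 0, 0, 0, 0, 0, 0, 0, 0, 0, 0, 0, 0],
    [0, 0, 0, 0, 0, 0, 0, 0, 0, 0, 0, 0, 0, 0],
    [0, 0, 0, 0, 0, 0, 0, 0, 0, 0, 0, 0, 0, 0],
    [0, 0, 0, 0, 0, 0, 0, 0, 0, 0, 0, 0, 0, 0],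
    [0, 0, 0, 0, 0, 0, 0, 0, 0, 0, 0, 0, 0, 0],
    [0, 0, 0, 0, 0, 0, 0, 0, 0, 0, 0, 0, 0, 0],
    [0, 0, 0, 0, 0, 0, 0, 0, 0, 0, 0, 0, 0, 0],
    [0, 0, 0, 0, 0, 0, 0, 0, 0, 0, 0, 0, 0, 0],
    [0, 0, 0, 0, 0, 0, 0, 0, 0, 0, 0, 0, 0, 0],
    [0, 0, 0, 0, 0, 0, 0, 0, 0, 0, 0, 0, 0, 0],
    [0, 0, 0, 0, 0, 0, 0, 0, 0, 0, 0, 0, 0, 0],
    [0, 0, 0, 0, 0, 0, 0, 0, 0, 0, 0, 0, 0, 0],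
    [0, 0, 0, 0, 0, 0, 0, 0, 0, 0, 0, 0, 0, 0],
    [0, 0, 0, 0, 0, 0, 0, 0, 0, 0, 0, 0, 0, 0],
    [0, 0, 0, 0, 0, 0, 0, 0, 0, 0, 0, 0, 0, 0],
    [0, 0, 0, 0, 0, 0, 0, 0, 0, 0, 0, 0, 0, 0],
    [0, 0, 0, 0, 0, 0, 0, 0, 0, 0, 0, 0, 0, 0],
    [0, 0, 0, 0, 0, 0, 0, 0, 0, 0, 0, 0, 0, 0],
    [0, 0, 0, 0, 0, 0, 0, 0, 0, 0, 0, 0, 0, 0],
    [0, 0, 0, 0, 0, 0, 0, 0, 0, 0, 0, 0, 0, 0],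
    [0, 0, 0, 0, 0, 0, 0, 0, 0, 0, 0, 0, 0, 0],
    [0, 0, 0, 0, 0, 0, 0, 0, 0, 0, 0, 0, 0, 0],
    [0, 0, 0, 0, 0, 0, 0, 0, 0, 0, 0, 0, 0, 0],
    [0, 0, 0, 0, 0, 0, 0, 0, 0, 0, 0, 0, 0, 0],
    [0, 0, 0, 0, 0, 0, 0, 0, 0, 0, 0, 0, 0, 0],
    [0, 0, 0, 0, 0, 0, 0, 0, 0, 0, 0, 0, 0, 0],
    [0, 0, 0, 0, 0, 0, 0, 0, 0, 0, 0, 0, 0, 0],
    [0, 0, 0, 0, 0, 0, 0, 0, 0, 0, 0, 0, 0, 0],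
    [0, 0, 0, 0, 0, 0, 0, 0, 0, 0, 0, 0, 0, 0],
    [1, 0, 0, 0, 0, 0, 0, 0, 0, 0, 0, 0, 0, 0],
    [-1, 0, 0, 0, 0, 0, 0, 0, 0, 0, 0, 0, 0, 0],
    [0, 0, 0, 0, 0, 0, 0, 0, 0, 0, 0, 0, 0, 0],
    [0, 0, 0, 0, 0, 0, 0, 0, 0, 0, 0, 0, 0, 0],
    [0, 0, 0, 0, 0, 0, 0, 0, 0, 0, 0, 0, 0, 0],
    [0, 0, 0, 0, 0, 0, 0, 0, 0, 0, 0, 0, 0, 0],
    [0, 1, 0, 0, 0, 0, 0, 0, 0, 0, 0, 0, 0, 0],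
    [0, -1, 0, 0, 0, 0, 0, 0, 0, 0, 0, 0, 0, 0],
    [0, 0, 0, 0, 0, 0, 0, 0, 0, 0, 0, 0, 0, 0],
    [0, 0, 0, 0, 0, 0, 0, 0, 0, 0, 0, 0, 0, 0],
    [0, 0, 1, 0, 0, 0, 0, 0, 0, 0, 0, 0, 0, 0],
    [0, 0, -1, 0, 0, 0, 0, 0, 0, 0, 0, 0, 0, 0],
    [0, 0, 0, 1, 0, 0, 0, 0, 0, 0, 0, 0, 0, 0],
    [0, 0, 0, -1, 0, 0, 0, 0, 0, 0, 0, 0, 0, 0],
    [0, 0, 0, 0, 0, 0, 0, 0, 0, 0, 0, 0, 0, 0],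
    [0, 0, 0, 0, 0, 0, 0, 0, 0, 0, 0, 0, 0, 0],
    [0, 0, 0, 0, 0, 0, 0, 0, 0, 0, 0, 0, 0, 0],
    [0, 0, 0, 0, 0, 0, 0, 0, 0, 0, 0, 0, 0, 0],
    [0, 0, 0, 0, 1, 0, 0, 0, 0, 0, 0, 0, 0, 0],
    [0, 0, 0, 0, -1, 0, 0, 0, 0, 0, 0, 0, 0, 0],
    [0, 0, 0, 0, 0, 0, 1, 0, 0, 0, 0, 0, 0, 0],
    [0, 0, 0, 0, 0, 0, -1, 0, 0, 0, 0, 0, 0, 0],
    [0, 0, 0, 0, 0, 0, 0, 1, 0, 0, 0, 0, 0, 0],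
    [0, 0, 0, 0, 0, 0, 0, -1, 0, 0, 0, 0, 0, 0],
    [0, 0, 0, 0, 0, 0, 0, 0, 1, 0, 0, 0, 0, 0],
    [0, 0, 0, 0, 0, 0, 0, 0, -1, 0, 0, 0, 0, 0]]

/-- Their sources. -/
def srcsB : List (Nat × Nat × Bool) :=
  [(0, 0, false), (1, 0, false), (2, 0, false), (3, 0, false), (4, 0, false), (14, 1, false), (9, 0, false), (11, 1, false), (5, 0, false), (7, 0, false), (8, 0, false), (12, 1, false), (13, 1, false), (6, 1, false), (10, 0, false), (19, 1, false), (20, 7, false), (22, 6, false), (21, 0, false), (23, 6, false), (16, 12, false), (15, 9, false), (26, 11, false), (25, 0, false), (27, 7, false), (24, 12, false), (28, 1, false), (18, 3, false), (17, 7, false), (14, 0, false), (9, 1, false), (11, 0, false), (5, 1, false),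 (7, 1, false), (8, 1, false), (12, 0, false), (13, 0, false), (6, 0, false), (10, 1, false), (19, 2, false), (19, 3, false), (19, 4, false), (19, 5, false), (19, 7, false), (19, 0, false), (20, 8, false), (20, 0, false), (20, 1, false), (20, 2, false), (20, 3, false), (20, 4, false), (20, 5, false), (20, 6, false), (20, 2, true), (20, 4, true), (20, 5, true), (20, 1, true), (22, 8, false), (22, 9, false), (22, 10, false), (22, 11, false), (22, 1, false), (22, 3, false), (21, 5, false), (23, 8, false), (23, 9, false), (23, 12, false), (23, 1, false), (23, 5, false), (16, 13, false), (16, 0, false), (16, 1, false), (16, 2, false), (16, 3, false), (16, 5, false), (16, 6, false), (16, 7, false), (16, 8, false), (16, 9, false),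 (16, 10, false), (16, 11, false), (16, 4, true), (16, 5, true), (16, 7, true), (16, 8, true), (16, 9, true), (16, 10, true), (16, 11, true), (16, 0, true), (16, 1, true), (16, 2, true), (15, 10, false), (15, 12, false), (15, 13, false), (15, 14, false), (15, 5, false), (15, 8, false), (15, 9, true), (15, 13, true), (15, 2, true), (26, 13, false), (26, 14, false), (26, 0, false), (26, 2, false), (26, 3, false), (26, 5, false), (26, 6, false), (26, 7, false), (26, 8, false), (26, 9, false), (26, 10, false), (26, 4, true), (26, 7, true), (26, 9, true), (26, 12, true), (26, 14, true), (26, 0, true), (26, 2, true), (26, 3, true), (25, 1, false), (25, 2, false), (25, 3, false), (25, 4, false), (25, 6, false), (25, 7, false),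 (25, 8, false), (25, 9, false), (25, 10, false), (25, 11, false), (25, 2, true), (25, 5, true), (25, 7, true), (27, 8, false), (27, 9, false), (27, 11, false), (27, 12, false), (27, 13, false), (27, 3, false), (27, 4, false), (27, 5, false), (27, 6, false), (27, 8, true), (27, 9, true), (27, 14, true), (27, 0, true), (27, 2, true), (27, 3, true), (27, 5, true), (27, 6, true), (27, 7, true), (24, 6, false), (24, 5, true), (24, 13, true), (24, 14, true), (18, 4, false), (18, 5, false), (18, 6, false), (18, 7, false), (18, 8, false), (18, 9, false), (18, 10, false), (18, 11, false), (18, 12, false), (18, 13, false), (18, 14, false), (18, 1, false), (18, 2, false), (17, 8, false), (17, 9, false), (17, 10, false), (17, 11,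 false), (17, 12, false), (17, 13, false), (17, 14, false), (17, 15, false), (17, 0, false), (17, 1, false), (17, 2, false), (17, 3, false), (17, 4, false), (17, 5, false), (5, 0, false), (5, 1, true), (6, 0, false), (6, 1, true), (7, 0, false), (7, 1, true), (8, 0, false), (8, 1, true), (9, 0, false), (9, 1, true), (10, 0, false), (10, 1, true), (11, 0, false), (11, 1, true), (12, 0, false), (12, 1, true), (13, 0, false), (13, 1, true), (14, 0, false), (14, 1, true), (17, 0, false), (17, 5, true), (18, 0, false), (18, 11, true), (19, 0, false), (19, 3, true), (21, 0, false), (21, 1, true), (22, 0, false), (22, 11, true), (23, 0, false), (23, 3, true)]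

/-- Closed paths. -/
def pathsB : List (List Nat × List Int) :=
  [([6, 947, 8, 2631, 4408, 1955, 3797, 3518, 4306, 2712, 1295], [3, 3, 3, 2, 2, 1, 0, 3, -2, 3, 1, 3, -1, 1])]

/-- The certificate. -/
def certB : VCert :=
  ⟨relWordsB, relValsB, [[0],
    [1],
    [2],
    [3]], tabFB, tabCB, tabVB, 2884, 1525, 14, 16, 6, pathsB⟩

/-- The relators. -/
def canon : List (List Nat) :=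
  [[0, 0],
    [1, 1],
    [2, 2],
    [3, 3],
    [4, 4],
    [0, 1, 0, 1, 0, 1],
    [0, 2, 0, 2, 0, 2, 0, 2],
    [0, 3, 0, 3, 0, 3],
    [0, 4, 0, 4, 0, 4],
    [1, 2, 1, 2, 1, 2],
    [1, 3, 1, 3, 1, 3, 1, 3],
    [1, 4, 1, 4, 1, 4],
    [2, 3, 2, 3, 2, 3],
    [2, 4, 2, 4, 2, 4, 2, 4],
    [3, 4, 3, 4],
    [0, 1, 0, 2, 0, 1, 2, 1, 0, 2, 0, 1, 2, 0, 2],
    [0, 1, 2, 0, 1, 2, 1, 0, 2, 0, 1, 2, 0, 2, 1],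
    [0, 1, 2, 0, 1, 3, 1, 0, 2, 1, 0, 2, 3, 0, 3, 2],
    [0, 1, 2, 1, 0, 2, 3, 0, 2, 3, 1, 3, 2, 0, 3, 2],
    [1, 3, 4, 3, 1, 4, 1, 4],
    [1, 3, 1, 3, 4, 1, 3, 1, 4],
    [0, 2, 4, 2, 0, 4, 0, 2, 4, 2, 0, 4],
    [0, 2, 4, 2, 3, 0, 3, 0, 3, 2, 4, 2],
    [2, 3, 4, 2, 4, 3, 4, 2, 4, 3, 2, 4, 2, 4],
    [0, 1, 2, 1, 0, 2, 1, 4, 1, 2, 0, 2, 1, 4, 2],
    [0, 1, 2, 1, 0, 2, 4, 1, 2, 0, 2, 4, 1, 4, 2],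
    [0, 1, 3, 0, 1, 4, 0, 3, 1, 3, 1, 4, 0, 1, 4],
    [0, 1, 3, 0, 4, 1, 0, 3, 4, 0, 1, 3, 4, 0, 3],
    [1, 2, 4, 1, 2, 4, 1, 2, 4, 1, 2, 4, 1, 2, 4]]

/-- Their values. -/
def canonVals : List (List Int) :=
  [[0, 0, 0, 0, 0, 0, 0, 0, 0, 0, 0, 0, 0, 0],
    [0, 0, 0, 0, 0, 0, 0, 0, 0, 0, 0, 0, 0, 0],
    [0, 0, 0, 0, 0, 0, 0, 0, 0, 0, 0, 0, 0, 0],
    [0, 0, 0, 0, 0, 0, 0, 0, 0, 0, 0, 0, 0, 0],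
    [0, 0, 0, 0, 0, 0, 0, 0, 0, 0, 0, 0, 0, 0],
    [0, 0, 0, 0, 0, 0, 0, 0, 0, 0, 0, 0, 0, 0],
    [0, 0, 0, 0, 0, 0, 0, 0, 0, 0, 0, 0, 0, 0],
    [0, 0, 0, 0, 0, 0, 0, 0, 0, 0, 0, 0, 0, 0],
    [1, 0, 0, 0, 0, 0, 0, 0, 0, 0, 0, 0, 0, 0],
    [0, 0, 0, 0, 0, 0, 0, 0, 0, 0, 0, 0, 0, 0],
    [0, 0, 0, 0, 0, 0, 0, 0, 0, 0, 0, 0, 0, 0],
    [0, 1, 0, 0, 0, 0, 0, 0, 0, 0, 0, 0, 0, 0],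
    [0, 0, 0, 0, 0, 0, 0, 0, 0, 0, 0, 0, 0, 0],
    [0, 0, 1, 0, 0, 0, 0, 0, 0, 0, 0, 0, 0, 0],
    [0, 0, 0, 1, 0, 0, 0, 0, 0, 0, 0, 0, 0, 0],
    [0, 0, 0, 0, 0, 0, 0, 0, 0, 0, 0, 0, 0, 0],
    [0, 0, 0, 0, 0, 0, 0, 0, 0, 0, 0, 0, 0, 0],
    [0, 0, 0, 0, 0, 0, 0, 0, 0, 0, 0, 0, 0, 0],
    [0, 0, 0, 0, 0, 0, 0, 0, 0, 0, 0, 0, 0, 0],
    [0, 0, 0, 0, 1, 0, 0, 0, 0, 0, 0, 0, 0, 0],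
    [0, 0, 0, 0, 0, 1, 0, 0, 0, 0, 0, 0, 0, 0],
    [0, 0, 0, 0, 0, 0, 1, 0, 0, 0, 0, 0, 0, 0],
    [0, 0, 0, 0, 0, 0, 0, 1, 0, 0, 0, 0, 0, 0],
    [0, 0, 0, 0, 0, 0, 0, 0, 1, 0, 0, 0, 0, 0],
    [0, 0, 0, 0, 0, 0, 0, 0, 0, 1, 0, 0, 0, 0],
    [0, 0, 0, 0, 0, 0, 0, 0, 0, 0, 1, 0, 0, 0],
    [0, 0, 0, 0, 0, 0, 0, 0, 0, 0, 0, 1, 0, 0],
    [0, 0, 0, 0, 0, 0, 0, 0, 0, 0, 0, 0, 1, 0],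
    [0, 0, 0, 0, 0, 0, 0, 0, 0, 0, 0, 0, 0, 1]]

/-- The exponent. -/
def expo : Nat := 6

/-- The twists. -/
def lam : List (List Int) :=
  [[0, 0, 0, 0, 0, 0, 0, 0, 0, 0, 0, 0, 0, 0],
    [0, 0, 0, 0, 0, 0, 0, 0, 0, 0, 0, 0, 0, 0],
    [0, 0, 0, 0, 0, 0, 0, 0, 0, 0, 0, 0, 0, 0],
    [0, 0, 0, 0, 0, 0, 0, 0, 0, 0, 0, 0, 0, 0],
    [0, 0, 0, 0, 0, 0, 0, 0, 0, 0, 0, 0, 0, 1]]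

/-- The generator of the bound. -/
def omega : List Int :=
  [0, 0, 0, 0, 0, 0, 0, 0, 0, 0, 0, 1, 0, 1]

/-- The multiples of it. -/
def mult : List Int :=
  [0, 0, 0, 0, 0, 0, 0, 0, 0, 0, 0, 0, 0, 0, 0, 0, 0, 0, 0, 0, 0, 0, 0, 0, 0, 0, 1, 0, 0]

/-- Combinations giving the exponent. -/
def expoCombs : List (List Int × List (Nat × Nat × Int)) :=
  [([918, -804, -1248, 0, -600, 150, -168, 1788, 600, -600, 486, -336, 1158, 600, 0, 0], [(64, 65, 3)]),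
    ([72, -60, -90, 0, -48, 12, -12, 132, 48, -48, 36, -24, 84, 48, 0, 0], [(64, 65, 3)]),
    ([1764, -1548, -2412, 0, -1146, 288, -324, 3456, 1146, -1146, 936, -648, 2232, 1146, 0, 0], []),
    ([228, -198, -312, 0, -144, 36, -42, 444, 144, -144, 120, -84, 288, 144, 0, 0], []),
    ([0, 0, 0, 0, 0, 0, 0, 0, 0, 0, 0, 0, 0, 0, 0, 0], [(64, 65, 3)]),
    ([1140, -1002, -1560, 0, -744, 186, -210, 2238, 744, -744, 606, -420, 1446, 744, 0, 0], []),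
    ([1308, -1146, -1788, 0, -846, 210, -240, 2556, 846, -846, 696, -480, 1656, 846, 0, 0], []),
    ([294, -258, -402, 0, -192, 48, -54, 576, 198, -198, 156, -108, 372, 198, 0, 0], []),
    ([-198, 180, 270, -6, 150, -36, 36, -396, -150, 150, -108, 72, -252, -150, 0, 0], []),
    ([1086, -948, -1482, 0, -720, 180, -198, 2118, 744, -744, 576, -396, 1368, 738, -6, 0], []),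
    ([-924, 804, 1266, 0, 624, -156, 168, -1806, -642, 642, -492, 336, -1164, -642, 6, 0], [(64, 65, 3)]),
    ([52, -44, -70, 0, -32, 8, -10, 98, 32, -32, 28, -18, 62, 32, 0, 0], [(64, 65, 1)]),
    ([-18, 12, 18, 0, 0, 0, 0, -24, 0, 0, -6, 6, -18, 0, 0, 0], [(64, 65, -3)]),
    ([678, -600, -930, 0, -429, 108, -126, 1332, 429, -429, 360, -252, 864, 426, 0, 1], [])]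

/-- Combinations for the twisted relators. -/
def twistCombs : List (List Int × List (Nat × Nat × Int)) :=
  [([0, 0, 0, 0, 0, 0, 0, 0, 0, 0, 0, 0, 0, 0, 0, 0, 0, 0, 0, 0, 0, 0, 0, 0, 0, 0, 0, 0, 0, 0, 0], []),
    ([0, 0, 0, 0, 0, 0, 0, 0, 0, 0, 0, 0, 0, 0, 0, 0, 0, 0, 0, 0, 0, 0, 0, 0, 0, 0, 0, 0, 0, 0, 0], []),
    ([0, 0, 0, 0, 0, 0, 0, 0, 0, 0, 0, 0, 0, 0, 0, 0, 0, 0, 0, 0, 0, 0, 0, 0, 0, 0, 0, 0, 0, 0, 0], []),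
    ([0, 0, 0, 0, 0, 0, 0, 0, 0, 0, 0, 0, 0, 0, 0, 0, 0, 0, 0, 0, 0, 0, 0, 0, 0, 0, 0, 0, 0, 0, 0], []),
    ([-4596, 4030, 6286, -4, 3022, -756, 842, -9002, -3046, 3046, -2442, 1686, -5814, -3040, 4, 0, 2, 0, 0, 0, 0, 0, 0, 0, 0, 0, 0, 0, -1, 0, 0], []),
    ([0, 0, 0, 0, 0, 0, 0, 0, 0, 0, 0, 0, 0, 0, 0, 0, 0, 0, 0, 0, 0, 0, 0, 0, 0, 0, 0, 0, 0, 0, 0], []),
    ([0, 0, 0, 0, 0, 0, 0, 0, 0, 0, 0, 0, 0, 0, 0, 0, 0, 0, 0, 0, 0, 0, 0, 0, 0, 0, 0, 0, 0, 0, 0], []),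
    ([0, 0, 0, 0, 0, 0, 0, 0, 0, 0, 0, 0, 0, 0, 0, 0, 0, 0, 0, 0, 0, 0, 0, 0, 0, 0, 0, 0, 0, 0, 0], []),
    ([-6767, 5933, 9256, -6, 4449, -1113, 1240, -13254, -4485, 4485, -3596, 2482, -8559, -4476, 6, 0, 3, 0, 0, 0, 0, 0, 0, 0, 0, 0, 0, 0, -1, 0, 0], []),
    ([0, 0, 0, 0, 0, 0, 0, 0, 0, 0, 0, 0, 0, 0, 0, 0, 0, 0, 0, 0, 0, 0, 0, 0, 0, 0, 0, 0, 0, 0, 0], []),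
    ([0, 0, 0, 0, 0, 0, 0, 0, 0, 0, 0, 0, 0, 0, 0, 0, 0, 0, 0, 0, 0, 0, 0, 0, 0, 0, 0, 0, 0, 0, 0], []),
    ([-6908, 6057, 9449, -6, 4541, -1136, 1266, -13530, -4577, 4577, -3671, 2534, -8738, -4568, 6, 0, 3, 0, 0, 0, 0, 0, 0, 0, 0, 0, 0, 0, -1, 0, 0], []),
    ([0, 0, 0, 0, 0, 0, 0, 0, 0, 0, 0, 0, 0, 0, 0, 0, 0, 0, 0, 0, 0, 0, 0, 0, 0, 0, 0, 0, 0, 0, 0], []),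
    ([-8898, 7802, 12170, -8, 5853, -1464, 1630, -17428, -5901, 5901, -4728, 3264, -11256, -5889, 8, 0, 4, 0, 0, 0, 0, 0, 0, 0, 0, 0, 0, 0, -2, 0, 0], []),
    ([-4558, 3997, 6234, -4, 2998, -750, 835, -8928, -3022, 3022, -2422, 1672, -5766, -3016, 4, 0, 2, 0, 0, 0, 0, 0, 0, 0, 0, 0, 0, 0, -1, 0, 0], []),
    ([0, 0, 0, 0, 0, 0, 0, 0, 0, 0, 0, 0, 0, 0, 0, 0, 0, 0, 0, 0, 0, 0, 0, 0, 0, 0, 0, 0, 0, 0, 0], []),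
    ([0, 0, 0, 0, 0, 0, 0, 0, 0, 0, 0, 0, 0, 0, 0, 0, 0, 0, 0, 0, 0, 0, 0, 0, 0, 0, 0, 0, 0, 0, 0], []),
    ([0, 0, 0, 0, 0, 0, 0, 0, 0, 0, 0, 0, 0, 0, 0, 0, 0, 0, 0, 0, 0, 0, 0, 0, 0, 0, 0, 0, 0, 0, 0], []),
    ([0, 0, 0, 0, 0, 0, 0, 0, 0, 0, 0, 0, 0, 0, 0, 0, 0, 0, 0, 0, 0, 0, 0, 0, 0, 0, 0, 0, 0, 0, 0], []),
    ([-6920, 6067, 9464, -6, 4549, -1138, 1268, -13552, -4585, 4585, -3677, 2538, -8752, -4576, 6, 0, 3, 0, 0, 0, 0, 0, 0, 0, 0, 0, 0, 0, -1, 0, 0], []),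
    ([-4406, 3863, 6026, -4, 2898, -725, 807, -8629, -2922, 2922, -2341, 1616, -5573, -2916, 4, 0, 2, 0, 0, 0, 0, 0, 0, 0, 0, 0, 0, 0, -1, 0, 0], []),
    ([-8974, 7869, 12274, -8, 5903, -1477, 1644, -17578, -5951, 5951, -4768, 3292, -11352, -5939, 8, 0, 4, 0, 0, 0, 0, 0, 0, 0, 0, 0, 0, 0, -2, 0, 0], []),
    ([-4547, 3987, 6219, -4, 2990, -748, 833, -8906, -3013, 3013, -2416, 1668, -5752, -3007, 4, 0, 2, 0, 0, 0, 0, 0, 0, 0, 0, 0, 0, 0, -1, 0, 0], []),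
    ([-13821, 12120, 18903, -13, 9091, -2274, 2532, -27072, -9163, 9163, -7344, 5070, -17484, -9145, 12, 0, 6, 0, 0, 0, 0, 0, 0, 0, 0, 0, 0, 0, -3, 0, 0], []),
    ([-4415, 3872, 6039, -4, 2902, -726, 809, -8649, -2922, 2922, -2346, 1620, -5586, -2917, 3, 0, 2, 0, 0, 0, 0, 0, 0, 0, 0, 0, 0, 0, -1, 0, 0], []),
    ([-7074, 6201, 9675, -6, 4653, -1164, 1296, -13853, -4692, 4692, -3759, 2594, -8946, -4683, 7, 0, 3, 0, 0, 0, 0, 0, 0, 0, 0, 0, 0, 0, -1, 0, 0], []),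
    ([-4596, 4030, 6286, -4, 3022, -756, 842, -9002, -3046, 3046, -2442, 1686, -5814, -3040, 4, 0, 2, 0, 0, 0, 0, 0, 0, 0, 0, 0, 0, 0, -1, 0, 0], []),
    ([-6933, 6078, 9483, -6, 4557, -1140, 1270, -13578, -4593, 4593, -3684, 2543, -8769, -4584, 6, 0, 3, 0, 0, 0, 0, 0, 0, 0, 0, 0, 0, 0, -1, 0, 0], []),
    ([-13788, 12090, 18858, -12, 9066, -2268, 2526, -27006, -9138, 9138, -7326, 5058, -17442, -9120, 12, 0, 6, 0, 0, 0, 0, 0, 0, 0, 0, 0, 0, 0, -3, 0, 0], [])]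

/-- Combinations for the twists. -/
def lamCombs : List (List Int × List (Nat × Nat × Int)) :=
  [([0, 0, 0, 0, 0, 0, 0, 0, 0, 0, 0, 0, 0, 0, 0, 0, 0, 0, 0, 0, 0, 0, 0, 0, 0, 0, 0, 0, 0, 0, 0], []),
    ([0, 0, 0, 0, 0, 0, 0, 0, 0, 0, 0, 0, 0, 0, 0, 0, 0, 0, 0, 0, 0, 0, 0, 0, 0, 0, 0, 0, 0, 0, 0], []),
    ([0, 0, 0, 0, 0, 0, 0, 0, 0, 0, 0, 0, 0, 0, 0, 0, 0, 0, 0, 0, 0, 0, 0, 0, 0, 0, 0, 0, 0, 0, 0], []),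
    ([0, 0, 0, 0, 0, 0, 0, 0, 0, 0, 0, 0, 0, 0, 0, 0, 0, 0, 0, 0, 0, 0, 0, 0, 0, 0, 0, 0, 0, 0, 0], []),
    ([-4596, 4030, 6286, -4, 3022, -756, 842, -9002, -3046, 3046, -2442, 1686, -5814, -3040, 4, 0, 2, 0, 0, 0, 0, 0, 0, 0, 0, 0, 0, 0, -1, 0, 0], [])]

/-- Combination for the generator. -/
def omegaComb : List Int × List (Nat × Nat × Int) :=
  ([-6894, 6045, 9429, -6, 4533, -1134, 1263, -13503, -4569, 4569, -3663, 2529, -8721, -4560, 6, 0, 3, 0, 0, 0, 0, 0, 0, 0, 0, 0, 0, 0, -1, 0, 0], [])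

end Cfsg.Lib.CosetEnum.MclStemG
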